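import Mathlib
import Groth.Agent.FlatDescent.LocalFP.Main
import Groth.Agent.FlatDescent.LocalFP.Sheaf
import Groth.Agent.FlatDescent.DivFlat.Basic
import Groth.Agent.Div38.Glue

/-!
# Flatness from a regular element with flat quotient, finitely presented case (no Noetherian hypothesis)
-/

set_option autoImplicit false

universe u

open AlgebraicGeometry CategoryTheory TensorProduct

namespace Groth.FlatDescent.DivFlatFP

/-- A submodule is generated by finitely many of its elements modulo `I`. -/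
theorem exists_fg_le_sup {S : Type u} [CommRing S] (I : Ideal S) [IsNoetherianRing (S ⧸ I)] {g : ℕ}
    (L : Submodule S (Fin g → S)) : ∃ L₀, L₀.FG ∧ L₀ ≤ L ∧ L ≤ L₀ ⊔ I • (⊤ : Submodule S (Fin g → S)) := by
  classical
  haveI : IsNoetherian S (S ⧸ I) := isNoetherian_def.mpr fun N => by
    let N' : Submodule (S ⧸ I) (S ⧸ I) :=
      { N.toAddSubmonoid with
        smul_mem' := fun c x hx => by
          obtain ⟨c, rfl⟩ := Ideal.Quotient.mk_surjective c
          exact N.smul_mem c hx }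
    have hN : N = N'.restrictScalars S := rfl
    rw [hN]
    exact Submodule.FG.restrictScalars_of_surjective (IsNoetherian.noetherian N') Ideal.Quotient.mk_surjective
  let q : (Fin g → S) →ₗ[S] (Fin g → S ⧸ I) := LinearMap.pi fun i => (Submodule.mkQ I).comp (LinearMap.proj i)
  obtain ⟨G, hG⟩ := (IsNoetherian.noetherian (L.map q) : (L.map q).FG)
  have hGm : ∀ y : G, ∃ v ∈ L, q v = y.1 := fun y => hG.le (Submodule.subset_span y.2)
  choose v hv hqv using hGm
  refine ⟨Submodule.span S (Set.range v), Submodule.fg_span (Set.finite_range v),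
    Submodule.span_le.mpr (by rintro _ ⟨y, rfl⟩; exact hv y), fun x hx => ?_⟩
  have hx' : q x ∈ Submodule.span S (Set.range fun y => q (v y)) := by
    have : (Set.range fun y => q (v y)) = (G : Set (Fin g → S ⧸ I)) := by
      ext z
      exact ⟨fun ⟨y, hy⟩ => by rw [← hy]; show q (v y) ∈ _; rw [hqv y]; exact y.2, fun hz => ⟨⟨z, hz⟩, hqv _⟩⟩
    rw [this, hG]
    exact Submodule.mem_map_of_mem hx
  obtain ⟨c, hc⟩ := (Submodule.mem_span_range_iff_exists_fun S).mp hx'
  rw [← add_sub_cancel (∑ y, c y • v y) x]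
  refine Submodule.add_mem_sup (sum_mem fun y _ => Submodule.smul_mem _ _ (Submodule.subset_span ⟨y, rfl⟩)) ?_
  have hz : q (x - ∑ y, c y • v y) = 0 := by
    rw [map_sub, map_sum, sub_eq_zero, ← hc]
    exact Finset.sum_congr rfl fun y _ => (map_smul q (c y) (v y)).symm
  rw [pi_eq_sum_univ' (x - ∑ y, c y • v y)]
  refine sum_mem fun i _ => Submodule.smul_mem_smul ?_ trivial
  exact (Submodule.Quotient.mk_eq_zero I).mp (congrFun hz i)

/-- Nakayama modulo an ideal. -/
theorem nakayama_sup {S : Type u} [CommRing S] [IsLocalRing S] (J I K : Ideal S) (a : S)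
    (ham : a ∈ IsLocalRing.maximalIdeal S) (N : Ideal S) (hNfg : N.FG) (hNle : N ≤ J ⊓ I) (hN : J ⊓ I ≤ N ⊔ K)
    (step : ∀ j ∈ J ⊓ I, j ∈ K ⊔ Ideal.span {a} * (J ⊓ I)) : J ⊓ I ≤ K := by
  refine le_trans hN (sup_le ?_ le_rfl)
  refine Submodule.le_of_le_smul_of_le_jacobson_bot (I := Ideal.span {a}) hNfg
    (le_trans ((Ideal.span_singleton_le_iff_mem _).mpr ham) (IsLocalRing.maximalIdeal_le_jacobson ⊥)) ?_
  intro j hj
  refine (sup_le le_sup_left ?_ : K ⊔ Ideal.span {a} * (J ⊓ I) ≤ K ⊔ Ideal.span {a} • N) (step j (hNle hj))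
  refine le_trans (Ideal.mul_mono_right hN) ?_
  rw [Ideal.mul_sup]
  exact sup_le le_sup_right (le_trans (Ideal.mul_le.mpr fun _ _ b hb => Ideal.mul_mem_left K _ hb) le_sup_left)

set_option maxHeartbeats 1000000 in
/-- `S/J` is flat if it has a regular element in the maximal ideal with flat quotient. -/
theorem flat_quotient_of_regular {R S : Type u} [CommRing R] [CommRing S] [IsLocalRing S] [Algebra R S]
    [Module.Flat R S] (hS : CAlgX.IsEssFinitePresentation R S) (J : Ideal S) (hJ : J.FG) (a : S)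
    (ham : a ∈ IsLocalRing.maximalIdeal S) (hreg : ∀ x, a * x ∈ J → x ∈ J)
    (hflat : Module.Flat R (S ⧸ (J ⊔ Ideal.span {a})))
    [IsNoetherianRing (S ⧸ ((IsLocalRing.maximalIdeal S).comap (algebraMap R S)).map (algebraMap R S))] :
    Module.Flat R (S ⧸ J) := by
  classical
  let p := (IsLocalRing.maximalIdeal S).comap (algebraMap R S)
  let I := p.map (algebraMap R S)
  let J' := J ⊔ Ideal.span {a}
  obtain ⟨g, G, hG⟩ := Submodule.fg_iff_exists_fin_generating_family.mp hJ
  let π : (Fin g → S) →ₗ[S] S := Fintype.linearCombination S G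
  have hπ : LinearMap.range π = J := by rw [Fintype.range_linearCombination]; exact hG
  have hπI : (I • (⊤ : Submodule S (Fin g → S))).map π = I * J := by
    rw [Submodule.map_smul'', Submodule.map_top, hπ]; rfl
  -- modulo `I * J`, multiplication by `a` is surjective on `J ⊓ I`
  have step : ∀ j ∈ J ⊓ I, j ∈ I * J ⊔ Ideal.span {a} * (J ⊓ I) := by
    rintro j ⟨hj, hjI⟩
    have hC : Module.Flat R (S ⧸ LinearMap.range (Submodule.subtype J')) := by
      rw [Submodule.range_subtype]; exact hflat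
    have h := LocalFP.mem_smul_of_flat_coker (Submodule.subtype J') (Submodule.injective_subtype J') hC p
      ⟨j, Submodule.mem_sup_left hj⟩ (by rw [Ideal.smul_eq_mul, Ideal.mul_top]; exact hjI)
    have h' := Submodule.mem_map_of_mem (f := Submodule.subtype J') h
    rw [Submodule.map_smul'', Submodule.map_top, Submodule.range_subtype] at h'
    replace h' : j ∈ I * J ⊔ I * Ideal.span {a} := by rw [← Ideal.mul_sup]; exact h'
    obtain ⟨y, hy, z, hz, hyz⟩ := Submodule.mem_sup.mp h'
    obtain ⟨r, hr, hra⟩ := Ideal.mem_mul_span_singleton.mp hz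
    refine hyz ▸ Submodule.add_mem_sup hy ?_
    rw [← hra, mul_comm r]
    refine Ideal.mul_mem_mul (Ideal.mem_span_singleton_self a) ⟨hreg r ?_, hr⟩
    rw [mul_comm, hra, show z = j - y by rw [← hyz]; ring]
    exact sub_mem hj ((Ideal.mul_le.mpr fun _ _ b hb => Ideal.mul_mem_left J _ hb) hy)
  obtain ⟨L₀, hL₀fg, hL₀le, hL₀⟩ := exists_fg_le_sup I (Submodule.comap π I)
  have hN : J ⊓ I ≤ L₀.map π ⊔ I * J := by
    rintro j ⟨hj, hjI⟩
    obtain ⟨v, rfl⟩ := hπ.ge hj
    rw [← hπI, ← Submodule.map_sup]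
    exact Submodule.mem_map_of_mem (hL₀ hjI)
  have hle : J ⊓ I ≤ I * J :=
    nakayama_sup J I (I * J) a ham (L₀.map π) (hL₀fg.map π) (fun j hj => by
      obtain ⟨v, hv, rfl⟩ := Submodule.mem_map.mp hj
      exact ⟨hπ.le ⟨v, rfl⟩, hL₀le hv⟩) hN step
  obtain ⟨K₀, hK₀fg, hK₀le, hK₀⟩ := exists_fg_le_sup I (LinearMap.ker π)
  haveI : Module.FinitePresentation S ((Fin g → S) ⧸ K₀) :=
    Module.finitePresentation_of_surjective K₀.mkQ (Submodule.mkQ_surjective K₀) (by rw [Submodule.ker_mkQ]; exact hK₀fg)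
  let u : ((Fin g → S) ⧸ K₀) →ₗ[S] S := K₀.liftQ π hK₀le
  have hu : ∀ x, u x ∈ I • (⊤ : Submodule S S) → x ∈ I • (⊤ : Submodule S ((Fin g → S) ⧸ K₀)) := by
    intro x hx
    obtain ⟨v, rfl⟩ := Submodule.Quotient.mk_surjective _ x
    rw [Ideal.smul_eq_mul, Ideal.mul_top] at hx
    have h1 : π v ∈ (I • (⊤ : Submodule S (Fin g → S))).map π := hπI ▸ hle ⟨hπ.le ⟨v, rfl⟩, hx⟩
    obtain ⟨w, hw, hwv⟩ := Submodule.mem_map.mp h1
    obtain ⟨k, hk, w', hw', hkw⟩ := Submodule.mem_sup.mp (hK₀ (show v - w ∈ LinearMap.ker π by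
      rw [LinearMap.mem_ker, map_sub, hwv, sub_self]))
    have hv : (Submodule.Quotient.mk v : (Fin g → S) ⧸ K₀) = K₀.mkQ (w' + w) := by
      refine (Submodule.Quotient.eq K₀).mpr ?_
      have he : v - (w' + w) = k := by
        rw [show v - (w' + w) = (v - w) - w' by abel, ← hkw]; abel
      rw [he]; exact hk
    rw [hv]
    have h2 := Submodule.mem_map_of_mem (f := K₀.mkQ) (add_mem hw' hw)
    rw [Submodule.map_smul'', Submodule.map_top] at h2
    exact Submodule.smul_mono le_rfl le_top h2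
  obtain ⟨-, hflat'⟩ := LocalFP.injective_and_flat_coker hS u hu
  have hr : LinearMap.range u = J := by rw [Submodule.range_liftQ, hπ]
  exact Module.Flat.of_linearEquiv ((Submodule.quotEquivOfEq _ _ hr).restrictScalars R).symm

/-- Fibres of a localisation of a polynomial ring are Noetherian. -/
theorem isNoetherianRing_fibre {R : Type u} [CommRing R] {n : ℕ} (Q : Ideal (MvPolynomial (Fin n) R)) [Q.IsPrime]
    (S : Type u) [CommRing S] [IsLocalRing S] [Algebra (MvPolynomial (Fin n) R) S] [Algebra R S]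
    [IsScalarTower R (MvPolynomial (Fin n) R) S] [IsLocalization.AtPrime S Q] :
    IsNoetherianRing (S ⧸ ((IsLocalRing.maximalIdeal S).comap (algebraMap R S)).map (algebraMap R S)) := by
  let p := (IsLocalRing.maximalIdeal S).comap (algebraMap R S)
  let I := p.map (algebraMap R S)
  let φ : R →+* S ⧸ I := (Ideal.Quotient.mk I).comp (algebraMap R S)
  have hker : p ≤ RingHom.ker φ := fun r hr => Ideal.Quotient.eq_zero_iff_mem.mpr (Ideal.mem_map_of_mem _ hr)
  have hunit : p.primeCompl ≤ (IsUnit.submonoid (S ⧸ I)).comap φ := fun r hr =>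
    (IsLocalRing.notMem_maximalIdeal.mp hr).map (Ideal.Quotient.mk I)
  let φ₀ : p.ResidueField →+* S ⧸ I := Ideal.ResidueField.lift p φ hker hunit
  let Φ : MvPolynomial (Fin n) p.ResidueField →+* S ⧸ I := MvPolynomial.eval₂Hom φ₀
    (fun i => Ideal.Quotient.mk I (algebraMap (MvPolynomial (Fin n) R) S (MvPolynomial.X i)))
  have hΦ : ∀ b : MvPolynomial (Fin n) R,
      Φ (MvPolynomial.map (algebraMap R p.ResidueField) b) = Ideal.Quotient.mk I (algebraMap _ S b) := by
    intro b
    induction b using MvPolynomial.induction_on with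
    | C r =>
      rw [MvPolynomial.map_C, MvPolynomial.eval₂Hom_C, Ideal.ResidueField.lift_algebraMap]
      show Ideal.Quotient.mk I (algebraMap R S r) = _
      rw [IsScalarTower.algebraMap_apply R (MvPolynomial (Fin n) R) S, MvPolynomial.algebraMap_eq]
    | add x y hx hy => simp only [map_add, hx, hy]
    | mul_X x i hx =>
      simp only [map_mul, hx, MvPolynomial.map_X]
      congr 1
      exact MvPolynomial.eval₂Hom_X' _ _ i
  refine (isNoetherianRing_iff_ideal_fg _).mpr fun 𝔞 => ?_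
  have h𝔞 : 𝔞 = (𝔞.comap Φ).map Φ := by
    refine le_antisymm (fun x hx => ?_) Ideal.map_comap_le
    obtain ⟨y, rfl⟩ := Ideal.Quotient.mk_surjective x
    obtain ⟨⟨b, s⟩, hbs⟩ := IsLocalization.surj Q.primeCompl y
    have hu := (IsLocalization.map_units S s).map (Ideal.Quotient.mk I)
    refine (Ideal.mul_unit_mem_iff_mem _ hu).mp ?_
    rw [← map_mul, hbs, ← hΦ]
    refine Ideal.mem_map_of_mem Φ ?_
    rw [Ideal.mem_comap, hΦ, ← hbs, map_mul]
    exact Ideal.mul_mem_right _ _ hx
  rw [h𝔞]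
  exact Ideal.FG.map (IsNoetherian.noetherian _) Φ

/-- A regular element with flat quotient forces flatness of a finitely presented algebra at the prime. -/
theorem flat_atPrime {A B T : Type u} [CommRing A] [CommRing B] [CommRing T] [Algebra A B] [Algebra.FinitePresentation A B]
    (q : Ideal B) [q.IsPrime] [Algebra B T] [Algebra A T] [IsScalarTower A B T] [IsLocalization.AtPrime T q]
    [IsLocalRing T] {t : T} (ht : t ∈ nonZeroDivisors T) (htm : t ∈ IsLocalRing.maximalIdeal T)
    (hflat : Module.Flat A (T ⧸ Ideal.span {t})) : Module.Flat A T := by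
  obtain ⟨n, π, hπ, hker⟩ := Algebra.FinitePresentation.out (R := A) (A := B)
  let P := MvPolynomial (Fin n) A
  let Q : Ideal P := q.comap π.toRingHom
  let S := Localization.AtPrime Q
  let ψ₀ : P →ₐ[A] T := (IsScalarTower.toAlgHom A B T).comp π
  have hψu : ∀ s : Q.primeCompl, IsUnit (ψ₀ s) := fun s => IsLocalization.map_units T (⟨π s, s.2⟩ : q.primeCompl)
  let ψ : S →ₐ[A] T := IsLocalization.liftAlgHom (M := Q.primeCompl) (f := ψ₀) hψu
  have hψ : ∀ b : P, ψ (algebraMap P S b) = algebraMap B T (π b) := fun b => IsLocalization.lift_eq _ _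
  let J : Ideal S := (RingHom.ker π.toRingHom).map (algebraMap P S)
  have hψs : Function.Surjective ψ := by
    intro x
    obtain ⟨⟨b, s⟩, hbs⟩ := IsLocalization.surj q.primeCompl x
    obtain ⟨b', rfl⟩ := hπ b
    obtain ⟨s', hs'⟩ := hπ s
    have hs'Q : s' ∈ Q.primeCompl := fun h => s.2 (by rw [← hs']; exact h)
    refine ⟨IsLocalization.mk' S b' (⟨s', hs'Q⟩ : Q.primeCompl), ?_⟩
    refine (IsLocalization.map_units T s).mul_right_cancel ?_
    rw [hbs, ← hψ b', ← hs', ← hψ s', ← map_mul]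
    exact congrArg ψ (IsLocalization.mk'_spec S b' (⟨s', hs'Q⟩ : Q.primeCompl))
  have hψk : RingHom.ker ψ.toRingHom = J := by
    refine le_antisymm (fun x hx => ?_) (Ideal.map_le_iff_le_comap.mpr fun b hb => ?_)
    · obtain ⟨⟨b, s⟩, hbs⟩ := IsLocalization.surj Q.primeCompl x
      have h0 : algebraMap B T (π b) = 0 := by
        rw [← hψ b, ← hbs, map_mul, show ψ x = 0 from hx, zero_mul]
      obtain ⟨c, hc⟩ := (IsLocalization.map_eq_zero_iff q.primeCompl T _).mp h0
      obtain ⟨c', hc'⟩ := hπ c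
      have hc'Q : c' ∈ Q.primeCompl := fun h => c.2 (by rw [← hc']; exact h)
      have hmem : algebraMap P S (c' * b) ∈ J := Ideal.mem_map_of_mem _ (by
        rw [RingHom.mem_ker, map_mul]
        show π c' * π b = 0
        rw [hc', hc])
      rw [map_mul, ← hbs, ← mul_assoc, mul_comm _ x, mul_assoc] at hmem
      exact (Ideal.mul_unit_mem_iff_mem _ ((IsLocalization.map_units S (⟨c', hc'Q⟩ : Q.primeCompl)).mul
        (IsLocalization.map_units S s))).mp hmem
    · show ψ (algebraMap P S b) = 0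
      rw [hψ, show π b = 0 from hb, map_zero]
  obtain ⟨a, rfl⟩ := hψs t
  haveI : Module.Flat P S := IsLocalization.flat S Q.primeCompl
  haveI : Module.Flat A S := Module.Flat.trans A P S
  haveI := isNoetherianRing_fibre Q S
  have hS : CAlgX.IsEssFinitePresentation A S :=
    ⟨P, inferInstance, inferInstance, inferInstance, inferInstance, Q.primeCompl, inferInstance, inferInstance⟩
  have ham : a ∈ IsLocalRing.maximalIdeal S := by
    by_contra h
    exact (IsLocalRing.mem_maximalIdeal _).mp htm ((IsLocalRing.notMem_maximalIdeal.mp h).map ψ)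
  let e : (S ⧸ J) ≃ₐ[A] T :=
    (Ideal.quotientEquivAlgOfEq A hψk.symm).trans (Ideal.quotientKerAlgEquivOfSurjective (f := ψ) hψs)
  have hflat' : Module.Flat A (S ⧸ (J ⊔ Ideal.span {a})) := by
    let χ : S →ₐ[A] T ⧸ Ideal.span {ψ a} := (Ideal.Quotient.mkₐ A _).comp ψ
    have hχs : Function.Surjective χ := Ideal.Quotient.mk_surjective.comp hψs
    have hχk : RingHom.ker χ.toRingHom = J ⊔ Ideal.span {a} := by
      refine le_antisymm (fun x hx => ?_) (sup_le ?_ ?_)
      · obtain ⟨c, hc⟩ := Ideal.mem_span_singleton'.mp (Ideal.Quotient.eq_zero_iff_mem.mp hx)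
        obtain ⟨c', rfl⟩ := hψs c
        rw [← sub_add_cancel x (c' * a)]
        refine Submodule.add_mem_sup (hψk.le ?_) (Ideal.mem_span_singleton'.mpr ⟨c', rfl⟩)
        show ψ (x - c' * a) = 0
        rw [map_sub, map_mul, hc]; exact sub_self _
      · intro x hx
        show Ideal.Quotient.mk _ (ψ x) = 0
        rw [show ψ x = 0 from hψk.ge hx, map_zero]
      · rw [Ideal.span_singleton_le_iff_mem]
        exact Ideal.Quotient.eq_zero_iff_mem.mpr (Ideal.mem_span_singleton_self _)
    exact Module.Flat.of_linearEquiv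
      ((Ideal.quotientEquivAlgOfEq A hχk.symm).trans (Ideal.quotientKerAlgEquivOfSurjective (f := χ) hχs)).toLinearEquiv
  haveI := flat_quotient_of_regular hS J (Ideal.FG.map hker _) a ham (fun x hx => hψk.le (by
    show ψ x = 0
    refine mem_nonZeroDivisors_iff_right.mp ht _ ?_
    rw [mul_comm, ← map_mul]
    exact hψk.ge hx)) hflat'
  exact Module.Flat.of_linearEquiv e.symm.toLinearEquiv

/-- Flatness at the points of a relative effective Cartier divisor. -/
theorem flat_stalkMap {X S : Scheme.{u}} (f : X ⟶ S) [LocallyOfFinitePresentation f] (𝓘 : X.IdealSheafData)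
    (hD : BlowUp.IsEffCartierIdeal 𝓘) [Flat (𝓘.subschemeι ≫ f)] {x : X} (hs : x ∈ 𝓘.support) :
    (f.stalkMap x).hom.Flat := by
  obtain ⟨V, hV, hxV, -⟩ := exists_isAffineOpen_mem_and_subset (U := (⊤ : S.Opens)) (x := f x) trivial
  obtain ⟨U, hx, e, a, ha, hI⟩ := DivFlat.exists_chart_le hD (O := f ⁻¹ᵁ V) (x := x) hxV
  letI : Algebra Γ(S, V) Γ(X, U.1) := (f.appLE V U.1 e).hom.toAlgebra
  haveI : Algebra.FinitePresentation Γ(S, V) Γ(X, U.1) :=
    HasRingHomProperty.appLE @LocallyOfFinitePresentation f inferInstance ⟨V, hV⟩ U e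
  haveI : Module.Flat Γ(S, V) (Γ(X, U.1) ⧸ 𝓘.ideal U) := DivFlat.flat_quot f 𝓘 hV U e
  letI := TopCat.Presheaf.algebra_section_stalk X.presheaf (⟨x, hx⟩ : U.1)
  haveI := U.2.isLocalization_stalk ⟨x, hx⟩
  letI := TopCat.Presheaf.algebra_section_stalk S.presheaf (⟨f x, e hx⟩ : V)
  haveI := hV.isLocalization_stalk ⟨f x, e hx⟩
  let T := X.presheaf.stalk x
  let R := S.presheaf.stalk (f x)
  letI : Algebra Γ(S, V) T := ((X.presheaf.germ U.1 x hx).hom.comp (f.appLE V U.1 e).hom).toAlgebra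
  haveI : IsScalarTower Γ(S, V) Γ(X, U.1) T := IsScalarTower.of_algebraMap_eq fun _ => rfl
  letI : Algebra R T := (f.stalkMap x).hom.toAlgebra
  haveI : IsScalarTower Γ(S, V) R T :=
    IsScalarTower.of_algebraMap_eq fun r => Groth.Agent.Div38.germ_appLE e hx r
  haveI : Module.Flat Γ(X, U.1) T := IsLocalization.flat T (U.2.primeIdealOf ⟨x, hx⟩).asIdeal.primeCompl
  haveI : Module.Flat Γ(S, V) (T ⊗[Γ(X, U.1)] (Γ(X, U.1) ⧸ 𝓘.ideal U)) :=
    Groth.FlatDescent.SheafBC.flat_tensor_of_flat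
  let t : T := algebraMap Γ(X, U.1) T a
  have hq : Module.Flat Γ(S, V) (T ⧸ Ideal.span {t}) := by
    have h := Module.Flat.of_linearEquiv
      (((Algebra.TensorProduct.quotIdealMapEquivTensorQuot T (𝓘.ideal U)).toLinearEquiv).restrictScalars Γ(S, V))
    rwa [hI, Ideal.map_span, Set.image_singleton] at h
  have htm : t ∈ IsLocalRing.maximalIdeal T := by
    have hne : Groth.Agent.DivCodimTwo.gI 𝓘 x ≠ ⊤ :=
      fun h => ((Groth.Agent.DivCodimTwo.gI_eq_top_iff 𝓘 x).mp h) hs
    apply IsLocalRing.le_maximalIdeal hne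
    rw [Groth.Agent.DivCodimTwo.gI_eq 𝓘 U hx]
    exact Ideal.mem_map_of_mem _ (hI ▸ Ideal.mem_span_singleton_self a)
  haveI : Module.Flat Γ(S, V) T := flat_atPrime (U.2.primeIdealOf ⟨x, hx⟩).asIdeal
    (IsLocalization.map_nonZeroDivisors_le (U.2.primeIdealOf ⟨x, hx⟩).asIdeal.primeCompl T
      (Submonoid.mem_map_of_mem _ ha)) htm hq
  show Module.Flat R T
  exact (Module.flat_iff_of_isLocalization R (hV.primeIdealOf ⟨f x, e hx⟩).asIdeal.primeCompl T).mpr inferInstance

end Groth.FlatDescent.DivFlatFP
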